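import Cfsg.Agent.J4PGL.Main

/-!
Elements inverting and normalising subgroups of orders 23 and 31 in the presented group.
-/

set_option autoImplicit false
set_option maxRecDepth 8000

namespace Cfsg.Lib.JankoFour.BigPrimes

open Cfsg Cfsg.Lib.J4Cert Cfsg.Lib.J4PGL
open Cfsg.Lib.CosetCert (wval)

/-- A product of two involutions of order 31. -/
def w31 : List ℕ := [0, 3, 1, 2, 1, 3, 1, 0, 1, 0, 3, 1, 1, 0, 2, 0, 1, 0, 2, 2, 3, 0, 2, 0, 2, 3, 2, 1, 2, 3]

theorem w31_check : leq (mPow (wordM w31) 31) J4Rep.idMat = true ∧ leq (wordM w31) J4Rep.idMat = false ∧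
    leq (mB (letM 0) (letM 0)) J4Rep.idMat = true ∧
    leq (mB (mB (letM 0) (wordM w31)) (letM 0)) (mPow (wordM w31) 30) = true := by decide +kernel

attribute [local irreducible] mB mPow wordM w31 letM

theorem exists_31 : ∃ x y : Spor.J4, orderOf x = 31 ∧ y * x * y⁻¹ = x ^ 30 := by
  obtain ⟨h1, h2, h3, h4⟩ := w31_check
  haveI : Fact (Nat.Prime 31) := ⟨by norm_num⟩
  have hw := wordM_ok w31
  have ha : MOK (letG 0) (letM 0) := letM_ok 0
  have hinv : (letG 0)⁻¹ = letG 0 := inv_eq_of_mul_eq_one_right (eq_of_leq (ha.mul ha) MOK.one h3)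
  exact ⟨wval letG w31, letG 0, orderOf_eq_prime (eq_of_leq (hw.npow 31) MOK.one h1) (ne_one_of hw h2),
    by rw [hinv]; exact eq_of_leq ((ha.mul hw).mul ha) (hw.npow 30) h4⟩

theorem exists_23 : ∃ x y : Spor.J4, orderOf x = 23 ∧ y * x * y⁻¹ = x ^ 5 :=
  ⟨ju, jt, orderOf_eq_prime tri_j.hu (ne_one_of u_mok nontriv.1), tri_j.htu⟩

end Cfsg.Lib.JankoFour.BigPrimes
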