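import Cfsg.Agent.JankoFour.BigPrimes.NoSmall
import Cfsg.Agent.JankoFour.BigPrimes.Witness
import Cfsg.Agent.J4Cert.Order

/-!
Normalisers of Sylow subgroups for the five large primes, given the isomorphism with the presented group.
-/

set_option autoImplicit false

namespace Cfsg.Lib.JankoFour.BigPrimes

open Cfsg Subgroup

variable {G : Type*} [Group G]

theorem transport {H : Type*} [Group H] (e : G ≃* H) {n k : ℕ} (h : ∃ x y : H, orderOf x = n ∧ y * x * y⁻¹ = x ^ k) :
    ∃ x y : G, orderOf x = n ∧ y * x * y⁻¹ = x ^ k := by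
  obtain ⟨x, y, hx, hy⟩ := h
  refine ⟨e.symm x, e.symm y, by rw [MulEquiv.orderOf_eq, hx], ?_⟩
  rw [← map_inv, ← map_mul, ← map_mul, hy, map_pow]

theorem of_iso [Finite G] [IsSimpleGroup G] (hG : ¬ IsMulCommutative G) (hJ : Cfsg.IsOfJankoFourType G)
    (e : G ≃* Spor.J4) :
    (∀ U : Sylow 23 G, centralizer ((U : Subgroup G) : Set G) = U ∧ Nat.card ↥(normalizer ((U : Subgroup G) : Set G)) = 23 * 22) ∧
    (∀ U : Sylow 29 G, centralizer ((U : Subgroup G) : Set G) = U ∧ Nat.card ↥(normalizer ((U : Subgroup G) : Set G)) = 29 * 28) ∧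
    (∀ U : Sylow 31 G, centralizer ((U : Subgroup G) : Set G) = U ∧ Nat.card ↥(normalizer ((U : Subgroup G) : Set G)) = 31 * 10) ∧
    (∀ U : Sylow 37 G, centralizer ((U : Subgroup G) : Set G) = U ∧ Nat.card ↥(normalizer ((U : Subgroup G) : Set G)) = 37 * 12) ∧
    (∀ U : Sylow 43 G, centralizer ((U : Subgroup G) : Set G) = U ∧ Nat.card ↥(normalizer ((U : Subgroup G) : Set G)) = 43 * 14) := by
  have hcard : Nat.card G = T := (Nat.card_congr e.toEquiv).trans Cfsg.Lib.J4Cert.card_J4.1
  exact five hcard (no_small hG hJ hcard) (transport e exists_23) (transport e exists_31) (exists_31_five hG hJ)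

end Cfsg.Lib.JankoFour.BigPrimes
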