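import Cfsg.Agent.JankoFour.BigPrimes.Arith

/-!
Self-centralising Sylow subgroups for the five large primes.
-/

set_option autoImplicit false
set_option linter.style.haveILetI false

namespace Cfsg.Lib.JankoFour.BigPrimes

open Subgroup

variable {G : Type*} [Group G] [Finite G]

/-- The five primes. -/
def PS : List ℕ := [23, 29, 31, 37, 43]

theorem PS_facts : ∀ p ∈ PS, 1 < p ∧ p ∣ T ∧ ¬ p * p ∣ T ∧ ¬ p ∣ 210 ∧ ∀ q ∈ PS, q ∣ p → q = p := by
  decide +kernel

theorem PS_prime : ∀ p ∈ PS, p.Prime := by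
  simp only [PS, List.mem_cons, List.not_mem_nil, or_false]
  rintro p (rfl | rfl | rfl | rfl | rfl) <;> norm_num

theorem dvd_M {m : ℕ} (h : m ∣ T) (h2 : ∀ r ∈ [2, 3, 5, 7], ¬ r ∣ m) : m ∣ M := by
  have hc : m.Coprime (2 ^ 21 * 3 ^ 3 * 5 * 7) := by
    have hp : ∀ r ∈ [2, 3, 5, 7], r.Prime := by
      simp only [List.mem_cons, List.not_mem_nil, or_false]
      rintro r (rfl | rfl | rfl | rfl) <;> norm_num
    have h' : ∀ r ∈ [2, 3, 5, 7], m.Coprime r := fun r hr =>
      (((hp r hr).coprime_iff_not_dvd).mpr (h2 r hr)).symm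
    exact (((h' 2 (by simp)).pow_right 21).mul_right ((h' 3 (by simp)).pow_right 3)).mul_right (h' 5 (by simp)) |>.mul_right
      (h' 7 (by simp))
  exact hc.dvd_of_dvd_mul_right ((show T = M * (2 ^ 21 * 3 ^ 3 * 5 * 7) by decide +kernel) ▸ h)

theorem sylow_card (hcard : Nat.card G = T) {p : ℕ} (hp : p ∈ PS) [Fact p.Prime] (U : Sylow p G) :
    Nat.card ↥(U : Subgroup G) = p := by
  obtain ⟨h1, hpT, hpp, -, -⟩ := PS_facts p hp
  obtain ⟨k, hk⟩ := U.2.exists_card_eq
  have hdvd := card_subgroup_dvd_card (U : Subgroup G)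
  rw [hk, hcard] at hdvd
  have hk1 : k ≠ 0 := fun e => by
    rw [e, pow_zero] at hk
    have h := U.dvd_card_of_dvd_card (hcard.symm ▸ hpT)
    rw [hk] at h
    exact absurd (Nat.le_of_dvd one_pos h) (by omega)
  rcases (show k = 1 ∨ 2 ≤ k by omega) with e | e
  · rw [hk, e, pow_one]
  · exact absurd ((pow_two p ▸ pow_dvd_pow p e).trans hdvd) hpp

theorem conj_card {p : ℕ} [Fact p.Prime] (U V : Sylow p G) :
    Nat.card ↥(centralizer ((U : Subgroup G) : Set G)) = Nat.card ↥(centralizer ((V : Subgroup G) : Set G)) ∧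
    Nat.card ↥(normalizer ((U : Subgroup G) : Set G)) = Nat.card ↥(normalizer ((V : Subgroup G) : Set G)) := by
  obtain ⟨g, hg⟩ := MulAction.exists_smul_eq G U V
  have e : (V : Subgroup G) = (U : Subgroup G).map (MulAut.conj g).toMonoidHom := by
    rw [← hg]; rfl
  refine ⟨?_, ?_⟩
  · refine (Subgroup.card_map_of_injective (f := (MulAut.conj g).toMonoidHom) (K := centralizer ((U : Subgroup G) : Set G)) (MulAut.conj g).injective).symm.trans ?_
    congr 1
    refine congrArg (fun H : Subgroup G => ↥H) ?_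
    ext x
    constructor
    · rintro ⟨c, hc, rfl⟩
      refine mem_centralizer_iff.mpr fun y hy => ?_
      rw [e] at hy
      obtain ⟨u, hu, rfl⟩ := hy
      show MulAut.conj g u * MulAut.conj g c = MulAut.conj g c * MulAut.conj g u
      rw [← map_mul, ← map_mul, mem_centralizer_iff.mp hc u hu]
    · intro hx
      refine ⟨(MulAut.conj g).symm x, mem_centralizer_iff.mpr fun u hu => (MulAut.conj g).injective ?_, (MulAut.conj g).apply_symm_apply x⟩
      rw [map_mul, map_mul, (MulAut.conj g).apply_symm_apply]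
      exact mem_centralizer_iff.mp hx _ (e ▸ ⟨u, hu, rfl⟩)
  · rw [e, ← Subgroup.map_equiv_normalizer_eq, Subgroup.card_map_of_injective (MulAut.conj g).injective]

/-- The elements of small prime order have centralisers prime to the five primes. -/
def NoSmall (G : Type*) [Group G] : Prop :=
  ∀ r ∈ [2, 3, 5, 7], ∀ a : G, orderOf a = r → ∀ p ∈ PS, ¬ p ∣ Nat.card ↥(centralizer ({a} : Set G))

theorem data (hcard : Nat.card G = T) (hno : NoSmall G) {p : ℕ} (hp : p ∈ PS) [Fact p.Prime] (U : Sylow p G) :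
    ∃ m d, Nat.card ↥(centralizer ((U : Subgroup G) : Set G)) = p * m ∧
      Nat.card ↥(normalizer ((U : Subgroup G) : Set G)) = p * m * d ∧ m ∣ M ∧ ¬ p ∣ m ∧ d ∣ p - 1 ∧
      p * m * d ∣ T ∧ T / (p * m * d) % p = 1 ∧
      ∀ x y : G, orderOf x = p → ∀ k : ℕ, y * x * y⁻¹ = x ^ k → k ^ d % p = 1 := by
  obtain ⟨hp1, hpT, hpp, -, -⟩ := PS_facts p hp
  set C := centralizer ((U : Subgroup G) : Set G)
  set N := normalizer ((U : Subgroup G) : Set G)
  have hU := sylow_card hcard hp U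
  haveI : IsCyclic ↥(U : Subgroup G) := isCyclic_of_prime_card hU
  have hUC : (U : Subgroup G) ≤ C := fun u hu => mem_centralizer_iff.mpr fun v hv =>
    congrArg Subtype.val (mul_comm' (⟨v, hv⟩ : ↥(U : Subgroup G)) ⟨u, hu⟩)
  obtain ⟨m, hm⟩ := hU ▸ card_dvd_of_le hUC
  have hCN : C ≤ N := centralizer_le_normalizer _
  let φ := (U : Subgroup G).normalizerMonoidHom
  have hker : φ.ker = C.subgroupOf N := normalizerMonoidHom_ker _
  set d := (C.subgroupOf N).index with hd
  have hNc : Nat.card ↥N = p * m * d := by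
    rw [← hm, ← (C.subgroupOf N).card_mul_index, Nat.card_congr (subgroupOfEquivOfLe hCN).toEquiv, hd]
  have hdp : d ∣ p - 1 := by
    have h : Nat.card ↥φ.range ∣ Nat.card (MulAut ↥(U : Subgroup G)) := card_subgroup_dvd_card _
    rw [← index_ker, hker, IsCyclic.card_mulAut, hU, Nat.totient_prime Fact.out] at h
    exact h
  have hsmall : ∀ r ∈ [2, 3, 5, 7], ¬ r ∣ m := fun r hr hrm => by
    haveI : Fact r.Prime := ⟨by
      simp only [List.mem_cons, List.not_mem_nil, or_false] at hr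
      rcases hr with rfl | rfl | rfl | rfl <;> norm_num⟩
    obtain ⟨⟨a, haC⟩, ha⟩ := exists_prime_orderOf_dvd_card' (G := ↥C) r (hm.symm ▸ hrm.mul_left p)
    rw [Subgroup.orderOf_mk] at ha
    refine hno r hr a ha p hp (hU ▸ card_dvd_of_le fun u hu => mem_centralizer_singleton_iff.mpr ?_)
    exact mem_centralizer_iff.mp haC u hu
  have hNT : p * m * d ∣ T := hcard ▸ hNc ▸ card_subgroup_dvd_card N
  have hmT : p * m ∣ T := (dvd_mul_right (p * m) d).trans hNT
  refine ⟨m, d, hm, hNc, dvd_M ((dvd_mul_left m p).trans hmT) hsmall, fun h => hpp ((mul_dvd_mul_left p h).trans hmT),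
    hdp, hNT, ?_, fun x y hx k hk => ?_⟩
  · have hidx := N.card_mul_index
    rw [hNc, hcard] at hidx
    rw [← hidx, Nat.mul_div_cancel_left _ (hNc ▸ Nat.card_pos)]
    exact Eq.trans (congrArg (· % p) (Sylow.card_eq_index_normalizer U).symm)
      (Eq.trans (card_sylow_modEq_one p G) (Nat.mod_eq_of_lt hp1))
  · obtain ⟨g, hg⟩ : ∃ g : G, g * x * g⁻¹ ∈ (U : Subgroup G) := by
      obtain ⟨V, hV⟩ := (IsPGroup.of_card (p := p) (n := 1) (show Nat.card ↥(zpowers x) = p ^ 1 by
        rw [Nat.card_zpowers, hx, pow_one])).exists_le_sylow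
      obtain ⟨g, hg⟩ := MulAction.exists_smul_eq G V U
      exact ⟨g, by rw [← hg, Sylow.coe_subgroup_smul]; exact ⟨x, hV (mem_zpowers x), rfl⟩⟩
    set x' := g * x * g⁻¹ with hx'
    have hxo : orderOf x' = p := by
      rw [hx', show g * x * g⁻¹ = MulAut.conj g x from rfl, MulEquiv.orderOf_eq, hx]
    have hgen : zpowers x' = (U : Subgroup G) :=
      eq_of_le_of_card_ge (zpowers_le.mpr hg) (by rw [Nat.card_zpowers, hxo, hU])
    set y' := g * y * g⁻¹ with hy'
    have hk' : y' * x' * y'⁻¹ = x' ^ k := by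
      rw [hx', hy', conj_pow, ← hk]; group
    have hyN : y' ∈ N := by
      have hsub : (U : Subgroup G).map (MulAut.conj y').toMonoidHom = (U : Subgroup G) := by
        refine eq_of_le_of_card_ge ?_ (le_of_eq (card_map_of_injective (MulAut.conj y').injective).symm)
        rw [← hgen, MonoidHom.map_zpowers, zpowers_le]
        show y' * x' * y'⁻¹ ∈ zpowers x'
        rw [hk']
        exact npow_mem_zpowers x' k
      refine mem_normalizer_iff.mpr fun u => ?_
      conv_rhs => rw [← hsub]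
      exact ⟨fun hu => ⟨u, hu, rfl⟩, fun ⟨v, hv, e⟩ => by rwa [← (MulAut.conj y').injective e]⟩
    have hpow : ∀ i : ℕ, y' ^ i * x' * (y' ^ i)⁻¹ = x' ^ k ^ i := by
      intro i
      induction i with
      | zero => simp
      | succ i ih =>
        rw [pow_succ' y', mul_inv_rev, show y' * y' ^ i * x' * ((y' ^ i)⁻¹ * y'⁻¹) = y' * (y' ^ i * x' * (y' ^ i)⁻¹) * y'⁻¹ by group,
          ih, ← conj_pow, hk', ← pow_mul, pow_succ']
    haveI hn : (C.subgroupOf N).Normal := hker ▸ φ.normal_ker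
    have hmem : y' ^ d ∈ C := by
      have h := (C.subgroupOf N).pow_index_mem (⟨y', hyN⟩ : ↥N)
      rw [mem_subgroupOf] at h
      simpa using h
    have h1 := hpow d
    rw [← mem_centralizer_iff.mp hmem x' hg, mul_inv_cancel_right] at h1
    have h2 : x' ^ k ^ d = x' ^ 1 := by rw [pow_one, ← h1]
    rw [pow_eq_pow_iff_modEq, hxo] at h2
    exact Eq.trans h2 (Nat.mod_eq_of_lt hp1)

theorem sym_dvd (hcard : Nat.card G = T) {p q : ℕ} (hp : p ∈ PS) (hq : q ∈ PS) [Fact p.Prime] [Fact q.Prime]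
    (U : Sylow p G) (V : Sylow q G) (h : q ∣ Nat.card ↥(centralizer ((U : Subgroup G) : Set G))) :
    p ∣ Nat.card ↥(centralizer ((V : Subgroup G) : Set G)) := by
  obtain ⟨⟨b, hb⟩, hb'⟩ := exists_prime_orderOf_dvd_card' (G := ↥(centralizer ((U : Subgroup G) : Set G))) q h
  rw [Subgroup.orderOf_mk] at hb'
  obtain ⟨V', hV'⟩ := (IsPGroup.of_card (p := q) (n := 1) (show Nat.card ↥(zpowers b) = q ^ 1 by
    rw [Nat.card_zpowers, hb', pow_one])).exists_le_sylow
  have e : zpowers b = (V' : Subgroup G) :=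
    eq_of_le_of_card_ge hV' (by rw [Nat.card_zpowers, hb', sylow_card hcard hq V'])
  rw [(conj_card V V').1]
  refine (sylow_card hcard hp U) ▸ card_dvd_of_le fun u hu => ?_
  rw [← e]
  refine mem_centralizer_iff.mpr fun w hw => ?_
  obtain ⟨i, rfl⟩ := mem_zpowers_iff.mp hw
  exact ((show Commute b u from (mem_centralizer_iff.mp hb u hu).symm).zpow_left i).eq

theorem rule (hcard : Nat.card G = T) (hno : NoSmall G) {p q : ℕ} (hp : p ∈ PS) (hq : q ∈ PS) [Fact p.Prime]
    [Fact q.Prime] (U : Sylow p G) {m d r : ℕ} (hr : r ∈ [2, 3, 5, 7])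
    (hm : Nat.card ↥(centralizer ((U : Subgroup G) : Set G)) = p * m)
    (hn : Nat.card ↥(normalizer ((U : Subgroup G) : Set G)) = p * m * d) (hmM : m ∣ M) (hqm : q ∣ m) (hrd : r ∣ d) :
    r ∣ q - 1 := by
  classical
  haveI hrp : Fact r.Prime := ⟨by
    simp only [List.mem_cons, List.not_mem_nil, or_false] at hr
    rcases hr with rfl | rfl | rfl | rfl <;> norm_num⟩
  by_contra hrq
  set C := centralizer ((U : Subgroup G) : Set G) with hC
  set N := normalizer ((U : Subgroup G) : Set G) with hN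
  have hCN : C ≤ N := centralizer_le_normalizer _
  have hCn : ∀ g ∈ N, ∀ c ∈ C, g * c * g⁻¹ ∈ C := fun g hg c hc => by
    have hn' : ((U : Subgroup G).normalizerMonoidHom).ker.Normal := inferInstance
    rw [normalizerMonoidHom_ker] at hn'
    exact mem_subgroupOf.mp (hn'.conj_mem (⟨c, hCN hc⟩ : ↥N) (mem_subgroupOf.mpr hc) ⟨g, hg⟩)
  have hqC : q ∣ Nat.card ↥C := hm.symm ▸ hqm.mul_left p
  obtain ⟨Y₀, hY₀⟩ := Sylow.exists_subgroup_card_pow_prime (G := ↥C) q (n := 1) (by rwa [pow_one])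
  rw [pow_one] at hY₀
  set Y := Y₀.map C.subtype with hYdef
  have hY : Nat.card ↥Y = q := by rw [hYdef, card_map_of_injective C.subtype_injective, hY₀]
  have hqq : ¬ q * q ∣ Nat.card ↥C := fun h => (PS_facts q hq).2.2.1 (h.trans (hcard ▸ card_subgroup_dvd_card C))
  have hY0 : Nat.card ↥Y₀ = q ^ (Nat.card ↥C).factorization q := by
    rw [hY₀]
    suffices h : (Nat.card ↥C).factorization q = 1 by rw [h, pow_one]
    refine le_antisymm ?_ ((Nat.Prime.dvd_iff_one_le_factorization Fact.out Nat.card_pos.ne').mp hqC)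
    by_contra hlt
    exact hqq ((pow_two q ▸ pow_dvd_pow q (show 2 ≤ (Nat.card ↥C).factorization q by omega)).trans
      (Nat.ordProj_dvd _ q))
  -- Frattini
  have hfr : ∀ g ∈ N, ∃ c ∈ C, c * g ∈ normalizer (Y : Set G) := by
    intro g hg
    let Y₁ : Subgroup ↥C := (Y.map (MulAut.conj g).toMonoidHom).subgroupOf C
    have hle : Y.map (MulAut.conj g).toMonoidHom ≤ C := by
      rintro _ ⟨y, ⟨⟨y', hy'⟩, -, rfl⟩, rfl⟩
      exact hCn g hg y' hy'
    have hY1 : Nat.card ↥Y₁ = q ^ (Nat.card ↥C).factorization q := by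
      rw [Nat.card_congr (subgroupOfEquivOfLe hle).toEquiv, card_map_of_injective (MulAut.conj g).injective, hY,
        ← hY0, hY₀]
    obtain ⟨c, hc⟩ := MulAction.exists_smul_eq ↥C (Sylow.ofCard Y₁ hY1) (Sylow.ofCard Y₀ hY0)
    refine ⟨c, c.2, ?_⟩
    refine Subgroup.mem_normalizer_fintype fun y hy => ?_
    have hgy : g * y * g⁻¹ ∈ C := hle ⟨y, hy, rfl⟩
    have h1 : c * ⟨g * y * g⁻¹, hgy⟩ * c⁻¹ ∈ ((Sylow.ofCard Y₀ hY0 : Sylow q ↥C) : Subgroup ↥C) := by
      rw [← hc, Sylow.coe_subgroup_smul]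
      exact ⟨⟨g * y * g⁻¹, hgy⟩, mem_subgroupOf.mpr ⟨y, hy, rfl⟩, rfl⟩
    refine ⟨_, h1, ?_⟩
    show (c : G) * (g * y * g⁻¹) * (c : G)⁻¹ = (c : G) * g * y * ((c : G) * g)⁻¹
    group
  obtain ⟨⟨x, hxN⟩, hx⟩ := exists_prime_orderOf_dvd_card' (G := ↥N) r (hn.symm ▸ hrd.mul_left _)
  rw [Subgroup.orderOf_mk] at hx
  obtain ⟨c, hc, hcx⟩ := hfr x hxN
  set n' := c * x
  have hnN : n' ∈ N := mul_mem (hCN hc) hxN
  have hrC : ¬ r ∣ Nat.card ↥C := fun h => by
    rcases (Nat.Prime.dvd_mul hrp.out).mp (hm ▸ h) with h' | h'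
    · have h'' := (Nat.prime_dvd_prime_iff_eq hrp.out Fact.out).mp h'
      exact (PS_facts p hp).2.2.2.1 (h'' ▸ (show r ∣ 210 by
        simp only [List.mem_cons, List.not_mem_nil, or_false] at hr
        rcases hr with rfl | rfl | rfl | rfl <;> norm_num))
    · exact (show ∀ r ∈ [2, 3, 5, 7], ¬ r ∣ M by decide +kernel) r hr (h'.trans hmM)
  have hxC : x ∉ C := fun h => hrC (by
    have h1 := orderOf_dvd_natCard (⟨x, h⟩ : ↥C)
    rwa [Subgroup.orderOf_mk, hx] at h1)
  have hro : r ∣ orderOf n' := by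
    haveI hCnorm : (C.subgroupOf N).Normal := by rw [hC, hN, ← normalizerMonoidHom_ker]; infer_instance
    set π := QuotientGroup.mk' (C.subgroupOf N)
    have e : π ⟨n', hnN⟩ = π ⟨x, hxN⟩ := by
      rw [show (⟨n', hnN⟩ : ↥N) = ⟨c, hCN hc⟩ * ⟨x, hxN⟩ from rfl, map_mul,
        show π ⟨c, hCN hc⟩ = 1 from (QuotientGroup.eq_one_iff _).mpr (mem_subgroupOf.mpr hc), one_mul]
    have h1 : orderOf (π ⟨x, hxN⟩) = r := by
      refine orderOf_eq_prime ?_ fun e1 => hxC (mem_subgroupOf.mp ((QuotientGroup.eq_one_iff _).mp e1))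
      rw [← map_pow, show (⟨x, hxN⟩ : ↥N) ^ r = 1 from Subtype.ext (by simpa using hx ▸ pow_orderOf_eq_one x), map_one]
    rw [← h1, ← e, ← Subgroup.orderOf_mk n' hnN]
    exact orderOf_map_dvd π _
  have hopos := orderOf_pos n'
  set y := n' ^ (orderOf n' / r) with hy
  have hyo : orderOf y = r := by
    rw [hy, orderOf_pow' _ (Nat.div_pos (Nat.le_of_dvd hopos hro) hrp.out.pos).ne',
      Nat.gcd_eq_right (Nat.div_dvd_of_dvd hro), Nat.div_div_self hro hopos.ne']
  have hyY : y ∈ normalizer (Y : Set G) := pow_mem hcx _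
  haveI : IsCyclic ↥Y := isCyclic_of_prime_card hY
  have hyC : y ∈ centralizer (Y : Set G) := by
    have h1 : orderOf (Y.normalizerMonoidHom ⟨y, hyY⟩) ∣ r := by
      rw [← hyo, ← Subgroup.orderOf_mk y hyY]; exact orderOf_map_dvd _ _
    have h2 : orderOf (Y.normalizerMonoidHom ⟨y, hyY⟩) ∣ q - 1 := by
      have := orderOf_dvd_natCard (Y.normalizerMonoidHom ⟨y, hyY⟩)
      rwa [IsCyclic.card_mulAut, hY, Nat.totient_prime Fact.out] at this
    have h3 : orderOf (Y.normalizerMonoidHom ⟨y, hyY⟩) = 1 :=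
      ((Nat.dvd_prime hrp.out).mp h1).resolve_right fun e => hrq (e ▸ h2)
    rw [orderOf_eq_one_iff, ← MonoidHom.mem_ker, normalizerMonoidHom_ker, mem_subgroupOf] at h3
    exact h3
  refine hno r hr y hyo q hq (hY ▸ card_dvd_of_le fun u hu => mem_centralizer_singleton_iff.mpr ?_)
  exact mem_centralizer_iff.mp hyC u hu

/-- The five rows. -/
theorem five (hcard : Nat.card G = T) (hno : NoSmall G) (h23 : ∃ x y : G, orderOf x = 23 ∧ y * x * y⁻¹ = x ^ 5)
    (h31 : ∃ x y : G, orderOf x = 31 ∧ y * x * y⁻¹ = x ^ 30) (h31' : ∃ x y : G, orderOf x = 31 ∧ y * x * y⁻¹ = x ^ 2) :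
    (∀ U : Sylow 23 G, centralizer ((U : Subgroup G) : Set G) = U ∧ Nat.card ↥(normalizer ((U : Subgroup G) : Set G)) = 23 * 22) ∧
    (∀ U : Sylow 29 G, centralizer ((U : Subgroup G) : Set G) = U ∧ Nat.card ↥(normalizer ((U : Subgroup G) : Set G)) = 29 * 28) ∧
    (∀ U : Sylow 31 G, centralizer ((U : Subgroup G) : Set G) = U ∧ Nat.card ↥(normalizer ((U : Subgroup G) : Set G)) = 31 * 10) ∧
    (∀ U : Sylow 37 G, centralizer ((U : Subgroup G) : Set G) = U ∧ Nat.card ↥(normalizer ((U : Subgroup G) : Set G)) = 37 * 12) ∧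
    (∀ U : Sylow 43 G, centralizer ((U : Subgroup G) : Set G) = U ∧ Nat.card ↥(normalizer ((U : Subgroup G) : Set G)) = 43 * 14) := by
  haveI : Fact (Nat.Prime 23) := ⟨by norm_num⟩
  haveI : Fact (Nat.Prime 29) := ⟨by norm_num⟩
  haveI : Fact (Nat.Prime 31) := ⟨by norm_num⟩
  haveI : Fact (Nat.Prime 37) := ⟨by norm_num⟩
  haveI : Fact (Nat.Prime 43) := ⟨by norm_num⟩
  have key : ∀ (A : Sylow 23 G) (B : Sylow 29 G) (C : Sylow 31 G) (D : Sylow 37 G) (F : Sylow 43 G),
      (centralizer ((A : Subgroup G) : Set G) = A ∧ Nat.card ↥(normalizer ((A : Subgroup G) : Set G)) = 23 * 22) ∧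
      (centralizer ((B : Subgroup G) : Set G) = B ∧ Nat.card ↥(normalizer ((B : Subgroup G) : Set G)) = 29 * 28) ∧
      (centralizer ((C : Subgroup G) : Set G) = C ∧ Nat.card ↥(normalizer ((C : Subgroup G) : Set G)) = 31 * 10) ∧
      (centralizer ((D : Subgroup G) : Set G) = D ∧ Nat.card ↥(normalizer ((D : Subgroup G) : Set G)) = 37 * 12) ∧
      (centralizer ((F : Subgroup G) : Set G) = F ∧ Nat.card ↥(normalizer ((F : Subgroup G) : Set G)) = 43 * 14) := by
    intro A B C D F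
    have m23 : 23 ∈ PS := by simp [PS]
    have m29 : 29 ∈ PS := by simp [PS]
    have m31 : 31 ∈ PS := by simp [PS]
    have m37 : 37 ∈ PS := by simp [PS]
    have m43 : 43 ∈ PS := by simp [PS]
    obtain ⟨a1, a2, hA, hA', aM, ap, ad, aT, as, aw⟩ := data hcard hno m23 A
    obtain ⟨b1, b2, hB, hB', bM, bp, bd, bT, bs, -⟩ := data hcard hno m29 B
    obtain ⟨c1, c2, hC, hC', cM, cp, cd, cT, cs, cw⟩ := data hcard hno m31 C
    obtain ⟨d1, d2, hD, hD', dM, dp, dd, dT, ds, -⟩ := data hcard hno m37 D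
    obtain ⟨e1, e2, hE, hE', eM, ep, ed, eT, es, -⟩ := data hcard hno m43 F
    have wa : W 23 a2 = true := by
      obtain ⟨x, y, hx, hy⟩ := h23
      simpa [W] using nb.mpr (aw x y hx 5 hy)
    have wc : W 31 c2 = true := by
      obtain ⟨x, y, hx, hy⟩ := h31
      obtain ⟨x', y', hx', hy'⟩ := h31'
      simpa [W, nb] using And.intro (nb.mpr (cw x y hx 30 hy)) (nb.mpr (cw x' y' hx' 2 hy'))
    have la : (a1, a2) ∈ L 23 := mem_L (by norm_num) aM ad ap wa aT as
    have lb : (b1, b2) ∈ L 29 := mem_L (by norm_num) bM bd bp (by simp [W, Nat.beq]) bT bs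
    have lc : (c1, c2) ∈ L 31 := mem_L (by norm_num) cM cd cp wc cT cs
    have ld : (d1, d2) ∈ L 37 := mem_L (by norm_num) dM dd dp (by simp [W, Nat.beq]) dT ds
    have le : (e1, e2) ∈ L 43 := mem_L (by norm_num) eM ed ep (by simp [W, Nat.beq]) eT es
    have hs : ∀ {p q : ℕ} (hp : p ∈ PS) (hq : q ∈ PS) [Fact p.Prime] [Fact q.Prime] (U : Sylow p G) (V : Sylow q G)
        {m n i k : ℕ}, q ≠ p → Nat.card ↥(centralizer ((U : Subgroup G) : Set G)) = p * m →
        Nat.card ↥(normalizer ((U : Subgroup G) : Set G)) = p * m * i → m ∣ M →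
        Nat.card ↥(centralizer ((V : Subgroup G) : Set G)) = q * n →
        Nat.card ↥(normalizer ((V : Subgroup G) : Set G)) = q * n * k → n ∣ M →
        ok2 p q (m, i) (n, k) = true := by
      intro p q hp hq _ _ U V m n i k hne hm hm' hmM hn hn' hnM
      refine ok2_of ⟨fun h => ?_, fun h => ?_⟩ (fun r hr h1 h2 => rule hcard hno hp hq U hr hm hm' hmM h1 h2)
        (fun r hr h1 h2 => rule hcard hno hq hp V hr hn hn' hnM h1 h2)
      · have := sym_dvd hcard hp hq U V (hm.symm ▸ h.mul_left p)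
        rw [hn] at this
        exact ((Fact.out : p.Prime).dvd_mul.mp this).resolve_left fun e =>
          hne ((Nat.prime_dvd_prime_iff_eq Fact.out Fact.out).mp e).symm
      · have := sym_dvd hcard hq hp V U (hn.symm ▸ h.mul_left q)
        rw [hm] at this
        exact ((Fact.out : q.Prime).dvd_mul.mp this).resolve_left fun e =>
          hne ((Nat.prime_dvd_prime_iff_eq Fact.out Fact.out).mp e)
    obtain ⟨ra, rb, rc, rd, re⟩ := solve la lb lc ld le (hs m23 m31 A C (by norm_num) hA hA' aM hC hC' cM)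
      (hs m23 m43 A F (by norm_num) hA hA' aM hE hE' eM) (hs m31 m43 C F (by norm_num) hC hC' cM hE hE' eM)
      (hs m23 m37 A D (by norm_num) hA hA' aM hD hD' dM) (hs m31 m37 C D (by norm_num) hC hC' cM hD hD' dM)
      (hs m37 m43 D F (by norm_num) hD hD' dM hE hE' eM) (hs m23 m29 A B (by norm_num) hA hA' aM hB hB' bM)
      (hs m29 m31 B C (by norm_num) hB hB' bM hC hC' cM) (hs m29 m43 B F (by norm_num) hB hB' bM hE hE' eM)
      (hs m29 m37 B D (by norm_num) hB hB' bM hD hD' dM)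
    simp only [Prod.mk.injEq] at ra rb rc rd re
    have fin : ∀ {p m i : ℕ} (hp : p ∈ PS) [Fact p.Prime] (U : Sylow p G) (j : ℕ),
        Nat.card ↥(centralizer ((U : Subgroup G) : Set G)) = p * m →
        Nat.card ↥(normalizer ((U : Subgroup G) : Set G)) = p * m * i → m = 1 ∧ i = j →
        centralizer ((U : Subgroup G) : Set G) = U ∧ Nat.card ↥(normalizer ((U : Subgroup G) : Set G)) = p * j := by
      intro p m i hp _ U j hm hm' hmi
      obtain ⟨rfl, rfl⟩ := hmi
      have hUc := sylow_card hcard hp U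
      haveI : IsCyclic ↥(U : Subgroup G) := isCyclic_of_prime_card hUc
      refine ⟨(eq_of_le_of_card_ge (fun u hu => mem_centralizer_iff.mpr fun v hv =>
        congrArg Subtype.val (mul_comm' (⟨v, hv⟩ : ↥(U : Subgroup G)) ⟨u, hu⟩)) (by rw [hm, hUc, mul_one])).symm,
        by rw [hm', mul_one]⟩
    exact ⟨fin m23 A 22 hA hA' ra, fin m29 B 28 hB hB' rb, fin m31 C 10 hC hC' rc, fin m37 D 12 hD hD' rd,
      fin m43 F 14 hE hE' re⟩
  refine ⟨fun U => (key U default default default default).1, fun U => (key default U default default default).2.1,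
    fun U => (key default default U default default).2.2.1, fun U => (key default default default U default).2.2.2.1,
    fun U => (key default default default default U).2.2.2.2⟩

end Cfsg.Lib.JankoFour.BigPrimes
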