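import Mathlib

/-!
The numerical solutions of the Sylow congruences for the five large primes in a group of the order of the fourth
Janko group.
-/

set_option autoImplicit false
set_option maxRecDepth 100000

namespace Cfsg.Lib.JankoFour.BigPrimes

/-- The order. -/
def T : ℕ := 86775571046077562880

/-- The part prime to 210. -/
def M : ℕ := 11 ^ 3 * 23 * 29 * 31 * 37 * 43

/-- Multiply a list by the powers of a number. -/
def ext (q e : ℕ) (l : List ℕ) : List ℕ := (List.range (e + 1)).flatMap fun i => l.map fun f => f * q ^ i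

theorem nb {a b : ℕ} : Nat.beq a b = true ↔ a = b := ⟨Nat.eq_of_beq_eq_true, fun h => h ▸ Nat.beq_refl a⟩

/-- The divisors of the part prime to 210. -/
def dl : List ℕ := ext 43 1 (ext 37 1 (ext 31 1 (ext 29 1 (ext 23 1 (ext 11 3 [1])))))

theorem ext_mem {q e M : ℕ} (hq : q.Prime) {l : List ℕ} (hl : ∀ k, k ∣ M → k ∈ l) :
    ∀ k, k ∣ M * q ^ e → k ∈ ext q e l := by
  intro k hk
  obtain ⟨a, b, ha, hb, rfl⟩ := Nat.dvd_mul.mp hk
  obtain ⟨i, hi, rfl⟩ := (Nat.dvd_prime_pow hq).mp hb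
  exact List.mem_flatMap.mpr ⟨i, List.mem_range.mpr (by omega), List.mem_map.mpr ⟨a, hl a ha, rfl⟩⟩

theorem dl_complete : ∀ k, k ∣ M → k ∈ dl := by
  intro k hk
  have h1 : ∀ k, k ∣ 1 → k ∈ [1] := fun k h => by simp [Nat.eq_one_of_dvd_one h]
  refine ext_mem (q := 43) (e := 1) (M := 11 ^ 3 * 23 * 29 * 31 * 37) (by norm_num)
    (fun k hk => ext_mem (q := 37) (e := 1) (M := 11 ^ 3 * 23 * 29 * 31) (by norm_num)
    (fun k hk => ext_mem (q := 31) (e := 1) (M := 11 ^ 3 * 23 * 29) (by norm_num)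
    (fun k hk => ext_mem (q := 29) (e := 1) (M := 11 ^ 3 * 23) (by norm_num)
    (fun k hk => ext_mem (q := 23) (e := 1) (M := 11 ^ 3) (by norm_num)
    (fun k hk => ext_mem (q := 11) (e := 3) (M := 1) (by norm_num) h1 k (by simpa using hk))
    k (by simpa using hk)) k (by simpa using hk)) k (by simpa using hk)) k (by simpa using hk)) k ?_
  simpa [M] using hk

/-- The conditions known for the automiser. -/
def W (p d : ℕ) : Bool :=
  if Nat.beq p 23 then Nat.beq (5 ^ d % 23) 1 else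
  if Nat.beq p 31 then Nat.beq (30 ^ d % 31) 1 && Nat.beq (2 ^ d % 31) 1 else true

/-- The candidates. -/
def L (p : ℕ) : List (ℕ × ℕ) :=
  dl.flatMap fun m => ((List.range p).filter fun d =>
    !Nat.beq d 0 && Nat.beq ((p - 1) % d) 0 && !Nat.beq (m % p) 0 && W p d && Nat.beq (T % (p * m * d)) 0 &&
      Nat.beq (T / (p * m * d) % p) 1).map fun d => (m, d)

theorem mem_L {p m d : ℕ} (hp : 1 < p) (hm : m ∣ M) (hd : d ∣ p - 1) (hpm : ¬ p ∣ m) (hW : W p d = true)
    (hT : p * m * d ∣ T) (hs : T / (p * m * d) % p = 1) : (m, d) ∈ L p := by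
  have hd0 : d ≠ 0 := fun e => by rw [e, zero_dvd_iff] at hd; omega
  have hdp : d < p := by have := Nat.le_of_dvd (by omega) hd; omega
  refine List.mem_flatMap.mpr ⟨m, dl_complete m hm, List.mem_map.mpr ⟨d, List.mem_filter.mpr
    ⟨List.mem_range.mpr hdp, ?_⟩, rfl⟩⟩
  simp only [Bool.and_eq_true, Bool.not_eq_true', hW, and_true]
  refine ⟨⟨⟨⟨?_, nb.mpr (Nat.mod_eq_zero_of_dvd hd)⟩, ?_⟩, nb.mpr (Nat.mod_eq_zero_of_dvd hT)⟩,
    nb.mpr hs⟩
  · exact Bool.eq_false_iff.mpr fun e => hd0 (Nat.eq_of_beq_eq_true e)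
  · exact Bool.eq_false_iff.mpr fun e => hpm (Nat.dvd_of_mod_eq_zero (Nat.eq_of_beq_eq_true e))

/-- Mutual compatibility of the candidates at two primes. -/
def okP (p q : ℕ) (a b : ℕ × ℕ) : Bool :=
  Nat.beq (a.1 % q) 0 == Nat.beq (b.1 % p) 0 &&
    (!Nat.beq (a.1 % q) 0 || [2, 3, 5, 7].all fun r => !Nat.beq (a.2 % r) 0 || Nat.beq ((q - 1) % r) 0)

/-- Both directions. -/
def ok2 (p q : ℕ) (a b : ℕ × ℕ) : Bool := okP p q a b && okP q p b a

/-- The search. -/
def search : Bool :=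
  (L 23).all fun a => (L 31).all fun c => !ok2 23 31 a c || (L 43).all fun e => !(ok2 23 43 a e && ok2 31 43 c e) ||
    (L 37).all fun d => !(ok2 23 37 a d && ok2 31 37 c d && ok2 37 43 d e) ||
      (L 29).all fun b => !(ok2 23 29 a b && ok2 29 31 b c && ok2 29 43 b e && ok2 29 37 b d) ||
        (a == (1, 22) && b == (1, 28) && c == (1, 10) && d == (1, 12) && e == (1, 14))

theorem search_ok : search = true := by decide +kernel

theorem ok2_of {p q : ℕ} {a b : ℕ × ℕ} (hs : q ∣ a.1 ↔ p ∣ b.1)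
    (hr : ∀ r ∈ [2, 3, 5, 7], q ∣ a.1 → r ∣ a.2 → r ∣ q - 1)
    (hr' : ∀ r ∈ [2, 3, 5, 7], p ∣ b.1 → r ∣ b.2 → r ∣ p - 1) : ok2 p q a b = true := by
  have hb : ∀ m n : ℕ, Nat.beq (m % n) 0 = decide (n ∣ m) := fun m n => by
    rw [Bool.eq_iff_iff, nb, decide_eq_true_eq, Nat.dvd_iff_mod_eq_zero]
  simp only [ok2, okP, Bool.and_eq_true, beq_iff_eq, hb, Bool.or_eq_true, List.all_eq_true, Bool.not_eq_true',
    decide_eq_false_iff_not, decide_eq_true_eq]
  refine ⟨⟨decide_eq_decide.mpr hs, ?_⟩, decide_eq_decide.mpr hs.symm, ?_⟩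
  · by_cases h : q ∣ a.1
    · exact Or.inr fun r hrm => (em (r ∣ a.2)).symm.imp id fun h2 => hr r hrm h h2
    · exact Or.inl h
  · by_cases h : p ∣ b.1
    · exact Or.inr fun r hrm => (em (r ∣ b.2)).symm.imp id fun h2 => hr' r hrm h h2
    · exact Or.inl h

/-- The solution is unique. -/
theorem solve {a b c d e : ℕ × ℕ} (ha : a ∈ L 23) (hb : b ∈ L 29) (hc : c ∈ L 31) (hd : d ∈ L 37) (he : e ∈ L 43)
    (h1 : ok2 23 31 a c = true) (h2 : ok2 23 43 a e = true) (h3 : ok2 31 43 c e = true) (h4 : ok2 23 37 a d = true)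
    (h5 : ok2 31 37 c d = true) (h6 : ok2 37 43 d e = true) (h7 : ok2 23 29 a b = true) (h8 : ok2 29 31 b c = true)
    (h9 : ok2 29 43 b e = true) (h10 : ok2 29 37 b d = true) :
    a = (1, 22) ∧ b = (1, 28) ∧ c = (1, 10) ∧ d = (1, 12) ∧ e = (1, 14) := by
  have h := search_ok
  simp only [search, List.all_eq_true, Bool.or_eq_true, Bool.not_eq_true', Bool.and_eq_false_iff] at h
  have := h a ha c hc
  simp only [h1, Bool.true_eq_false, false_or] at this
  have := this e he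
  simp only [h2, h3, Bool.true_eq_false, false_or] at this
  have := this d hd
  simp only [h4, h5, h6, Bool.true_eq_false, false_or] at this
  have := this b hb
  simp only [h7, h8, h9, h10, Bool.true_eq_false, false_or, Bool.and_eq_true, beq_iff_eq] at this
  obtain ⟨⟨⟨⟨r1, r2⟩, r3⟩, r4⟩, r5⟩ := this
  exact ⟨r1, r2, r3, r4, r5⟩

end Cfsg.Lib.JankoFour.BigPrimes
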