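import Cfsg.Agent.JankoFour.BigPrimes.General
import Cfsg.Agent.JankoFour.CentralP
import Cfsg.Agent.JankoFour.Involutions
import Cfsg.Agent.S5564
import Cfsg.Agent.S5569
import Cfsg.Agent.S5570
import Cfsg.Agent.S5572
import Cfsg.Agent.S5573

/-!
Centralisers of elements of small prime order and a subgroup 31:5 in a group of Janko-four type.
-/

set_option autoImplicit false
set_option maxRecDepth 100000
set_option linter.style.haveILetI false

namespace Cfsg.Lib.JankoFour.BigPrimes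

open Subgroup

variable {G : Type*} [Group G] [Finite G]

theorem card_cent_conj {a b : G} (h : IsConj a b) :
    Nat.card ↥(centralizer ({a} : Set G)) = Nat.card ↥(centralizer ({b} : Set G)) := by
  obtain ⟨g, rfl⟩ := isConj_iff.mp h
  refine (Subgroup.card_map_of_injective (f := (MulAut.conj g).toMonoidHom) (K := centralizer ({a} : Set G))
    (MulAut.conj g).injective).symm.trans ?_
  congr 1
  refine congrArg (fun H : Subgroup G => ↥H) ?_
  ext x
  rw [Cfsg.Lib.LargeExtra.mem_centralizer_conj]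
  refine ⟨?_, fun hx => ⟨_, hx, by show g * (g⁻¹ * x * g) * g⁻¹ = x; group⟩⟩
  rintro ⟨y, hy, rfl⟩
  show g⁻¹ * (g * y * g⁻¹) * g ∈ _
  rwa [show g⁻¹ * (g * y * g⁻¹) * g = y by group]

/-- Elements of a prime order dividing the order once are conjugate into any subgroup of order divisible by it. -/
theorem conj_into {r : ℕ} [Fact r.Prime] (hr1 : ¬ r * r ∣ Nat.card G) (H : Subgroup G) (hH : r ∣ Nat.card ↥H) {a : G}
    (ha : orderOf a = r) : ∃ b ∈ H, orderOf b = r ∧ Nat.card ↥(centralizer ({a} : Set G)) = Nat.card ↥(centralizer ({b} : Set G)) := by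
  obtain ⟨⟨c, hcH⟩, hc⟩ := exists_prime_orderOf_dvd_card' (G := ↥H) r hH
  rw [Subgroup.orderOf_mk] at hc
  have hp : ∀ {x : G}, orderOf x = r → IsPGroup r ↥(zpowers x) := fun {x} hx =>
    IsPGroup.of_card (n := 1) (by rw [Nat.card_zpowers, hx, pow_one])
  obtain ⟨A, hA⟩ := (hp ha).exists_le_sylow
  obtain ⟨B, hB⟩ := (hp hc).exists_le_sylow
  obtain ⟨g, hg⟩ := MulAction.exists_smul_eq G A B
  have hBc : zpowers c = (B : Subgroup G) := by
    refine eq_of_le_of_card_ge hB ?_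
    obtain ⟨k, hk⟩ := B.2.exists_card_eq
    rw [hk, Nat.card_zpowers, hc]
    refine (Nat.pow_le_pow_right (Fact.out : r.Prime).pos (show k ≤ 1 from ?_)).trans_eq (pow_one r)
    by_contra hlt
    exact hr1 ((pow_two r ▸ pow_dvd_pow r (show 2 ≤ k by omega)).trans (hk ▸ card_subgroup_dvd_card _))
  have hmem : g * a * g⁻¹ ∈ (B : Subgroup G) := by
    rw [← hg, Sylow.coe_subgroup_smul]
    exact ⟨a, hA (mem_zpowers a), rfl⟩
  rw [← hBc] at hmem
  refine ⟨g * a * g⁻¹, zpowers_le.mpr hcH hmem, ?_, card_cent_conj (isConj_iff.mpr ⟨g, rfl⟩)⟩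
  rw [show g * a * g⁻¹ = MulAut.conj g a from rfl, MulEquiv.orderOf_eq, ha]

theorem five_primes_not_dvd : ∀ p ∈ PS, ¬ p ∣ 8192 * 2661120 ∧ ¬ p ∣ 887040 * 2048 ∧ ¬ p ∣ 2 ^ 8 * 3 * 5 * 7 ∧
    ¬ p ∣ 2 ^ 3 * 3 ^ 2 * 5 * 7 := by decide +kernel

theorem no_small [IsSimpleGroup G] (hG : ¬ IsMulCommutative G) (hJ : Cfsg.IsOfJankoFourType G)
    (hcard : Nat.card G = T) : NoSmall G := by
  classical
  obtain ⟨z, hz⟩ := hJ
  have hz' := hz
  obtain ⟨P, hP⟩ := hz'
  obtain ⟨C⟩ := Cfsg.Lib.JankoFour.exists_ctx hP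
  intro r hr a ha p hp hdvd
  obtain ⟨nH, nT, n5, n7⟩ := five_primes_not_dvd p hp
  simp only [List.mem_cons, List.not_mem_nil, or_false] at hr
  rcases hr with rfl | rfl | rfl | rfl
  · obtain ⟨v, hv, hconj⟩ := C.to_V hG (g := a) (by rw [← pow_two, ← ha, pow_orderOf_eq_one])
    rw [card_cent_conj hconj] at hdvd
    by_cases hzv : IsConj z v
    · rw [← card_cent_conj hzv, C.cardH] at hdvd
      exact nH hdvd
    · have hvo : orderOf v = 2 := by
        obtain ⟨g, rfl⟩ := isConj_iff.mp hconj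
        rw [show g * a * g⁻¹ = MulAut.conj g a from rfl, MulEquiv.orderOf_eq, ha]
      obtain ⟨V, K, hVC, hKC, hCN, -, hVcard, -, hsup, ⟨e⟩⟩ := Cfsg.Agent.S5569.result hG z hz v hvo hzv
      haveI : (V.subgroupOf (centralizer ({v} : Set G))).Normal :=
        (normal_subgroupOf_iff_le_normalizer hVC).mpr hCN
      let q := (QuotientGroup.mk' (V.subgroupOf (centralizer ({v} : Set G)))).comp (Subgroup.inclusion hKC)
      have hq : Function.Surjective q := by
        intro x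
        obtain ⟨⟨c, hc⟩, rfl⟩ := QuotientGroup.mk'_surjective _ x
        have hc' : c ∈ ((K ⊔ V : Subgroup G) : Set G) := by rw [hsup]; exact hc
        rw [coe_mul_of_left_le_normalizer_right K V (hKC.trans hCN)] at hc'
        obtain ⟨k, hk, w, hw, rfl⟩ := Set.mem_mul.mp hc'
        refine ⟨⟨k, hk⟩, QuotientGroup.eq.mpr ?_⟩
        rw [mem_subgroupOf]
        show k⁻¹ * (k * w) ∈ V
        rwa [inv_mul_cancel_left]
      have h1 := (Subgroup.card_dvd_of_surjective q hq)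
      rw [Nat.card_congr e.toEquiv, card_aut_M22.1] at h1
      rw [card_eq_card_quotient_mul_card_subgroup (V.subgroupOf (centralizer ({v} : Set G))),
        Nat.card_congr (subgroupOfEquivOfLe hVC).toEquiv, hVcard] at hdvd
      exact nT (hdvd.trans (Nat.mul_dvd_mul h1 (by norm_num)))
  · rw [card_cent_conj (Cfsg.Agent.S5564.result hG ⟨z, hz⟩ a C.p ha C.ord)] at hdvd
    have hle : centralizer ({C.p} : Set G) ≤ centralizer ({z} : Set G) := fun x hx => by
      refine C.centralizer_P_le hG (C.mem_CP.mpr ?_)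
      exact mem_centralizer_singleton_iff.mp hx
    exact nH (hdvd.trans (C.cardH ▸ card_dvd_of_le hle))
  · haveI : Fact (Nat.Prime 5) := ⟨by norm_num⟩
    obtain ⟨b, hb, hbo, e⟩ := conj_into (r := 5) (by rw [hcard]; decide +kernel) (centralizer ({z} : Set G))
      (by rw [C.cardH]; norm_num) ha
    have h5 := (Cfsg.Agent.S5572.result hG z hz (zpowers b) (by rw [Nat.card_zpowers, hbo]) (zpowers_le.mpr hb)).2.2.2
    rw [e] at hdvd
    refine n5 (h5 ▸ hdvd.trans (card_dvd_of_le fun x hx => centralizer_le_normalizer _ (mem_centralizer_iff.mpr ?_)))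
    intro y hy
    obtain ⟨i, rfl⟩ := mem_zpowers_iff.mp hy
    exact ((show Commute b x from (mem_centralizer_singleton_iff.mp hx).symm).zpow_left i).eq
  · haveI : Fact (Nat.Prime 7) := ⟨by norm_num⟩
    obtain ⟨b, hb, hbo, e⟩ := conj_into (r := 7) (by rw [hcard]; decide +kernel) (centralizer ({z} : Set G))
      (by rw [C.cardH]; norm_num) ha
    have h7 := (Cfsg.Agent.S5573.result hG z hz (zpowers b) (by rw [Nat.card_zpowers, hbo]) (zpowers_le.mpr hb)).2.2.2
    rw [e] at hdvd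
    refine n7 (h7 ▸ hdvd.trans (card_dvd_of_le fun x hx => centralizer_le_normalizer _ (mem_centralizer_iff.mpr ?_)))
    intro y hy
    obtain ⟨i, rfl⟩ := mem_zpowers_iff.mp hy
    exact ((show Commute b x from (mem_centralizer_singleton_iff.mp hx).symm).zpow_left i).eq

/-- The Singer cycle. -/
def mS : Matrix (Fin 5) (Fin 5) (ZMod 2) :=
  !![0, 0, 0, 0, 1; 1, 0, 0, 0, 0; 0, 1, 0, 0, 1; 0, 0, 1, 0, 0; 0, 0, 0, 1, 0]

/-- The field automorphism. -/
def mF : Matrix (Fin 5) (Fin 5) (ZMod 2) :=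
  !![1, 0, 0, 0, 1; 0, 0, 0, 1, 0; 0, 1, 0, 0, 1; 0, 0, 0, 1, 1; 0, 0, 1, 0, 0]

theorem singer_check : mS.det = 1 ∧ mF.det = 1 ∧ mS ^ 31 = 1 ∧ mS ≠ 1 ∧ mF * mS = mS * mS * mF := by decide +kernel

theorem singer_group {n : Type*} [Fintype n] [DecidableEq n] {R : Type*} [CommRing R] {M N : Matrix n n R}
    (d1 : M.det = 1) (d2 : N.det = 1) (h31 : M ^ 31 = 1) (hne : M ≠ 1) (hcj : N * M = M * M * N) :
    ∃ X Y : Matrix.SpecialLinearGroup n R, orderOf X = 31 ∧ Y * X * Y⁻¹ = X ^ 2 := by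
  haveI : Fact (Nat.Prime 31) := ⟨by norm_num⟩
  obtain ⟨X, hX⟩ : ∃ X : Matrix.SpecialLinearGroup n R, (X : Matrix n n R) = M := ⟨⟨M, d1⟩, rfl⟩
  obtain ⟨Y, hY⟩ : ∃ Y : Matrix.SpecialLinearGroup n R, (Y : Matrix n n R) = N := ⟨⟨N, d2⟩, rfl⟩
  refine ⟨X, Y, orderOf_eq_prime (Subtype.ext ?_) fun h => hne ?_, mul_inv_eq_of_eq_mul (Subtype.ext ?_)⟩
  · rw [Matrix.SpecialLinearGroup.coe_pow, Matrix.SpecialLinearGroup.coe_one, hX, h31]
  · rw [← hX, h, Matrix.SpecialLinearGroup.coe_one]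
  · rw [Matrix.SpecialLinearGroup.coe_mul, Matrix.SpecialLinearGroup.coe_mul, Matrix.SpecialLinearGroup.coe_pow,
      pow_two, hX, hY, hcj]

theorem exists_31_five [IsSimpleGroup G] (hG : ¬ IsMulCommutative G) (hJ : Cfsg.IsOfJankoFourType G) :
    ∃ x y : G, orderOf x = 31 ∧ y * x * y⁻¹ = x ^ 2 := by
  obtain ⟨⟨A, hA, hAc, hAs⟩, -, hB⟩ := Cfsg.Agent.S5570.result hG hJ
  obtain ⟨⟨B, -, -, -, ⟨e⟩⟩, -⟩ := hB A hA hAc hAs
  obtain ⟨d1, d2, h31, hne, hcj⟩ := singer_check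
  obtain ⟨X, Y, hX, hY⟩ := singer_group d1 d2 h31 hne hcj
  refine ⟨(e.symm X : G), (e.symm Y : G), by rw [Subgroup.orderOf_coe, MulEquiv.orderOf_eq, hX], ?_⟩
  have h := congrArg (fun w => ((e.symm w : ↥B) : G)) hY
  simpa only [map_mul, map_inv, map_pow, Subgroup.coe_mul, Subgroup.coe_inv, Subgroup.coe_pow] using h

end Cfsg.Lib.JankoFour.BigPrimes
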